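import Cfsg.Agent.Lib.SzSubgroups.Main
import Mathlib

/-!
Every proper subgroup of the Suzuki group fixes a point, normalises a torus, or lies in a subfield
subgroup.
-/

set_option autoImplicit false
set_option linter.unusedSectionVars false
set_option linter.style.haveILetI false

namespace Cfsg.Agent.Lib.SzSubgroups

open Cfsg.Agent.Lib.LieTwisted.Suzuki Cfsg.Agent.Lib.SzTori Cfsg.Agent.Lib.SzSolubilizer
open Cfsg.Agent.Lib.SzElements.Basic
open scoped Pointwise

variable {F : Type*} [Field F] [Fintype F] {m : ℕ}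

local notation "∞'" => (opt m (none : Option (F × F)))

variable (h : IsSzField F m) (hm : 1 ≤ m)

include h hm

theorem map_conj_ne_top {M : Subgroup (Cfsg.Sz F m)} (hM : M ≠ ⊤) (x : Cfsg.Sz F m) :
    M.map (MulAut.conj x).toMonoidHom ≠ ⊤ := fun e => hM <| by
  refine Subgroup.eq_top_of_card_eq M ?_
  rw [Nat.card_congr
    (M.equivMapOfInjective (MulAut.conj x).toMonoidHom (MulAut.conj x).injective).toEquiv, e,
    Subgroup.card_top]

theorem not_solvable_map {M : Subgroup (Cfsg.Sz F m)} (hM : ¬ Group.IsSolvable M) (x : Cfsg.Sz F m) :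
    ¬ Group.IsSolvable (M.map (MulAut.conj x).toMonoidHom) := fun hs => hM <| by
  let e := M.equivMapOfInjective (MulAut.conj x).toMonoidHom (MulAut.conj x).injective
  haveI := hs
  exact solvable_of_solvable_injective (f := e.toMonoidHom) e.injective

/-- A non-solvable subgroup is conjugate to one containing `uS 0 1` and moving `∞`, with at least
four involutions at `∞`, and normalised. -/
theorem exists_core {M : Subgroup (Cfsg.Sz F m)} (hns : ¬ Group.IsSolvable M) :
    ∃ x : Cfsg.Sz F m, Core h hm (M.map (MulAut.conj x).toMonoidHom) := by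
  haveI := Fact.mk Nat.prime_two
  obtain ⟨z, hzM, hz2, hz1⟩ : ∃ z ∈ M, z ^ 2 = 1 ∧ z ≠ 1 := by
    by_contra hno
    push Not at hno
    refine hns (solvable_of_two_cyclic h hm M fun D => ?_)
    by_contra hc
    haveI : Nontrivial (D : Subgroup M) :=
      not_subsingleton_iff_nontrivial.mp fun _ => hc inferInstance
    obtain ⟨k, hk0, hk⟩ := D.isPGroup'.nontrivial_iff_card.mp inferInstance
    obtain ⟨⟨⟨d, hdM⟩, hdD⟩, hd⟩ := exists_prime_orderOf_dvd_card' (G := (D : Subgroup M)) 2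
      (hk ▸ dvd_pow_self 2 (by omega))
    rw [Subgroup.orderOf_mk, Subgroup.orderOf_mk] at hd
    have := hno d hdM (hd ▸ pow_orderOf_eq_one d)
    rw [this, orderOf_one] at hd
    norm_num at hd
  obtain ⟨p, hp⟩ := exists_fix_of_four h hm
    (show z ^ 4 = 1 from (pow_mul z 2 2).trans (by rw [hz2, one_pow])) hz1
  obtain ⟨y, hy⟩ := exists_to h hm p
  have hy2 : (y⁻¹ * z * y) ^ 2 = 1 := by
    rw [show y⁻¹ * z * y = y⁻¹ * z * y⁻¹⁻¹ by rw [inv_inv], conj_pow, hz2, mul_one, mul_inv_cancel]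
  have hy1 : (y⁻¹ * z * y) • ∞' = ∞' := by
    rw [mul_smul, mul_smul, hy, hp, ← hy, inv_smul_smul]
  obtain ⟨b, hb⟩ := inv_stab_eq h hm hy2 hy1
  have hb0 : b ≠ 0 := fun e => hz1 (by
    rw [e, h.uS_zero] at hb
    simpa [mul_assoc] using congrArg (fun w => y * w * y⁻¹) hb)
  obtain ⟨e, he⟩ := scalar_surjective h (inv_ne_zero hb0)
  -- the first conjugate contains `uS 0 1`
  set x₁ := dS h e * y⁻¹ with hx₁
  have hconj : ∀ (x : Cfsg.Sz F m) {H : Subgroup (Cfsg.Sz F m)} {g : Cfsg.Sz F m}, g ∈ H →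
      x * g * x⁻¹ ∈ H.map (MulAut.conj x).toMonoidHom := fun x {H g} hg => ⟨g, hg, rfl⟩
  have hone : uS h 0 1 ∈ M.map (MulAut.conj x₁).toMonoidHom := by
    have := hconj x₁ hzM
    rwa [show x₁ * z * x₁⁻¹ = dS h e * (y⁻¹ * z * y) * (dS h e)⁻¹ by rw [hx₁]; group, hb,
      h.dS_mul_uS, mul_inv_cancel_right, mul_zero, he, inv_mul_cancel₀ hb0] at this
  set M₁ := M.map (MulAut.conj x₁).toMonoidHom with hM₁
  have hns₁ : ¬ Group.IsSolvable M₁ := not_solvable_map h hm hns x₁
  have hmov : Moving h M₁ := ⟨hone, by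
    by_contra hfix
    push Not at hfix
    exact hns₁ (isSolvable_mono (fun g hg => hfix g hg) (stab_solvable h hm))⟩
  obtain ⟨c, hc, hc0, hc1⟩ : ∃ c ∈ hmov.field h hm, c ≠ 0 ∧ c ≠ 1 := by
    by_contra hno
    push Not at hno
    exact hns₁ (solvable_of_two_cyclic h hm M₁ (hmov.two_cyclic h hm fun b hb =>
      or_iff_not_imp_left.mpr (hno b hb)))
  -- the torus of the subfield is cyclic
  classical
  let E : Subgroup Fˣ :=
    { carrier := {e | (e : F) ∈ hmov.field h hm}
      mul_mem' := fun {a b} ha hb => by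
        rw [Set.mem_setOf_eq, Units.val_mul]; exact mul_mem ha hb
      one_mem' := by rw [Set.mem_setOf_eq, Units.val_one]; exact one_mem _
      inv_mem' := fun {a} ha => by
        rw [Set.mem_setOf_eq, Units.val_inv_eq_inv_val]; exact inv_mem ha }
  obtain ⟨⟨e₀, he₀⟩, hgen⟩ := IsCyclic.exists_generator (α := E)
  obtain ⟨a, b, hk⟩ := hmov.torus_exists h hm he₀
  have he₀1 : e₀ ≠ 1 := fun z => by
    subst z
    obtain ⟨n, hn⟩ := Subgroup.mem_zpowers_iff.mp (hgen ⟨Units.mk0 c hc0, hc⟩)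
    have := congrArg (fun w : E => ((w : Fˣ) : F)) hn
    simp at this
    exact hc1 this.symm
  obtain ⟨p', q', hpq⟩ := borel_cases h hm (a := a) (b := b) he₀1
  set u := (uS h p' q')⁻¹ with hu
  refine ⟨u * x₁, ?_⟩
  rw [show M.map (MulAut.conj (u * x₁)).toMonoidHom = M₁.map (MulAut.conj u).toMonoidHom by
    rw [hM₁, Subgroup.map_map]; congr 1; exact MonoidHom.ext fun g => by simp [mul_assoc]]
  set M₂ := M₁.map (MulAut.conj u).toMonoidHom with hM₂
  obtain ⟨r, s, hrs⟩ : u ∈ unip h := (unip h).inv_mem (h.uS_mem p' q')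
  have hcent : ∀ v, u * uS h 0 v * u⁻¹ = uS h 0 v := fun v => by
    rw [hrs, ← h.uS_center_comm, mul_inv_cancel_right]
  have hiff : ∀ v, uS h 0 v ∈ M₂ ↔ uS h 0 v ∈ M₁ := fun v => by
    constructor
    · rintro ⟨g, hg, hgv⟩
      have : g = uS h 0 v := (MulAut.conj u).injective (hgv.trans (hcent v).symm)
      exact this ▸ hg
    · intro hv
      exact hcent v ▸ hconj u hv
  have hone₂ : uS h 0 1 ∈ M₂ := (hiff 1).mpr hone
  have hns₂ : ¬ Group.IsSolvable M₂ := not_solvable_map h hm hns₁ u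
  have hmov₂ : Moving h M₂ := ⟨hone₂, by
    by_contra hfix
    push Not at hfix
    exact hns₂ (isSolvable_mono (fun g hg => hfix g hg) (stab_solvable h hm))⟩
  have hd : dS h e₀ ∈ M₂ := by
    have := hconj u hk
    rwa [hu, inv_inv, hpq] at this
  refine ⟨hmov₂, fun e he => ?_, c, (hiff c).mpr hc, hc0, hc1⟩
  obtain ⟨n, hn⟩ := Subgroup.mem_zpowers_iff.mp (hgen ⟨e, (hiff _).mp he⟩)
  have hn' : e₀ ^ n = e := congrArg Subtype.val hn
  rw [← hn', map_zpow]
  exact M₂.zpow_mem hd n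

/-- Every proper subgroup lies in a point stabiliser, a torus normaliser, or a subfield group. -/
theorem trichotomy {M : Subgroup (Cfsg.Sz F m)} (hM : M ≠ ⊤) :
    (∃ P : Sylow 2 (Cfsg.Sz F m),
      M ≤ Subgroup.normalizer ((P : Subgroup (Cfsg.Sz F m)) : Set (Cfsg.Sz F m))) ∨
    (∃ U : Subgroup (Cfsg.Sz F m), IsCyclic U ∧ Nat.card U ∈ ({2 ^ (2 * m + 1) - 1,
        2 ^ (2 * m + 1) + 2 ^ (m + 1) + 1, 2 ^ (2 * m + 1) - 2 ^ (m + 1) + 1} : Set ℕ) ∧
      M ≤ Subgroup.normalizer (U : Set (Cfsg.Sz F m))) ∨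
    (∃ (K : Type) (_ : Field K) (_ : Fintype K) (k : ℕ), 1 ≤ k ∧ k < m ∧
      Fintype.card K = 2 ^ (2 * k + 1) ∧ 2 * k + 1 ∣ 2 * m + 1 ∧
      ∃ S : Subgroup (Cfsg.Sz F m), Nonempty (S ≃* Cfsg.Sz K k) ∧ M ≤ S) := by
  haveI := Fact.mk Nat.prime_two
  by_cases hs : Group.IsSolvable M
  · by_cases hbot : M = ⊥
    · obtain ⟨S, -⟩ := h.exists_sylow hm
      exact Or.inl ⟨S, hbot ▸ bot_le⟩
    obtain ⟨⟨x, hx⟩, hx1⟩ := Subgroup.ne_bot_iff_exists_ne_one.mp hbot
    rcases classify h hm M hs hx (fun e => hx1 (Subtype.ext e)) with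
      ⟨P, hP, hfix⟩ | ⟨P, R, hP, hR, hne, hpair⟩ | ⟨g, hg, hnor⟩
    · obtain ⟨S, hS⟩ := h.exists_sylow hm
      obtain ⟨p, rfl⟩ := hP
      obtain ⟨y, hy⟩ := exists_to h hm p
      refine Or.inl ⟨y • S, fun t ht => ?_⟩
      change t ∈ Subgroup.normalizer ((y • S : Sylow 2 (Cfsg.Sz F m)) : Set (Cfsg.Sz F m))
      rw [← Sylow.stabilizer_eq_normalizer, MulAction.mem_stabilizer_iff, ← mul_smul]
      have hfx : (y⁻¹ * t * y) • ∞' = ∞' := by rw [mul_smul, mul_smul, hy, hfix t ht, ← hy, inv_smul_smul]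
      have hst : (y⁻¹ * t * y) • S = S := by
        rw [← MulAction.mem_stabilizer_iff, Sylow.stabilizer_eq_normalizer]
        change _ ∈ Subgroup.normalizer ((S : Subgroup (Cfsg.Sz F m)) : Set (Cfsg.Sz F m))
        rw [hS, h.normalizer_unip hm, ← opt_none (m := m), MulAction.mem_stabilizer_iff]
        exact hfx
      rw [show t * y = y * (y⁻¹ * t * y) by group, mul_smul, hst]
    · obtain ⟨k, kP, kR⟩ := exists_move h hm hP hR hne
      let U := (dS h).range.map (MulAut.conj k).toMonoidHom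
      have hUmem : ∀ g, g ∈ U ↔ g • P = P ∧ g • R = R := by
        intro g
        constructor
        · rintro ⟨_, ⟨e, rfl⟩, rfl⟩
          simp only [MulEquiv.coe_toMonoidHom, MulAut.conj_apply]
          rw [← kP, ← kR]
          simp [mul_smul, h.dS_smul_none, h.dS_smul_zero]
        · rintro ⟨gP, gR⟩
          obtain ⟨e, he⟩ := h.eq_of_fix_two hm (g := k⁻¹ * g * k)
            (by rw [mul_smul, mul_smul, kP, gP, ← kP, inv_smul_smul])
            (by rw [mul_smul, mul_smul, kR, gR, ← kR, inv_smul_smul])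
          exact ⟨_, ⟨e, rfl⟩, by simp only [MulEquiv.coe_toMonoidHom, MulAut.conj_apply]; rw [← he]; group⟩
      haveI : IsCyclic (dS h).range :=
        isCyclic_of_surjective (dS h).rangeRestrict (dS h).rangeRestrict_surjective
      refine Or.inr (Or.inl ⟨U, ?_, Or.inl ?_, fun t ht => ?_⟩)
      · exact isCyclic_of_surjective
          ((dS h).range.equivMapOfInjective (MulAut.conj k).toMonoidHom (MulAut.conj k).injective).toMonoidHom
          (MulEquiv.surjective _)
      · rw [Subgroup.card_map_of_injective (MulAut.conj k).injective, card_range_dS h hm, h.card]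
      · have hmaps : ∀ s ∈ pairStab P R, ∀ u ∈ U, s * u * s⁻¹ ∈ U := by
          intro s hs u hu
          obtain ⟨uP, uR⟩ := (hUmem u).mp hu
          refine (hUmem _).mpr ?_
          have hi := (pairStab P R).inv_mem hs
          rcases hi with ⟨e1, e2⟩ | ⟨e1, e2⟩ <;> rcases hs with ⟨f1, f2⟩ | ⟨f1, f2⟩ <;>
            simp only [mul_smul, e1, e2, uP, uR] <;>
            first
              | exact ⟨f1, f2⟩ | exact ⟨f2, f1⟩
              | exact absurd ((inv_smul_eq_iff.mp e1).trans f1).symm hne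
              | exact absurd ((inv_smul_eq_iff.mp e1).trans f2) hne
              | exact absurd ((inv_smul_eq_iff.mp e2).trans f1) hne.symm
              | exact absurd ((inv_smul_eq_iff.mp e2).trans f2).symm hne
        rw [Subgroup.mem_normalizer_iff]
        refine fun u => ⟨hmaps t (hpair t ht) u, fun hu => ?_⟩
        have := hmaps t⁻¹ ((pairStab P R).inv_mem (hpair t ht)) _ hu
        rwa [inv_inv, show t⁻¹ * (t * u * t⁻¹) * t = u by group] at this
    · refine Or.inr (Or.inl ⟨cen g, torus_cyclic h hm hg, ?_, hnor⟩)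
      exact Or.inr ((torus_orders h hm).1 g hg)
  · obtain ⟨x, hcore⟩ := exists_core h hm hs
    obtain ⟨K, _, _, k, hk1, hkm, hKc, hdvd, φ, hφ, hle⟩ :=
      hcore.exists_emb h hm (map_conj_ne_top h hm hM x)
    refine Or.inr (Or.inr ⟨K, inferInstance, inferInstance, k, hk1, hkm, hKc, hdvd,
      φ.range.comap (MulAut.conj x).toMonoidHom, ⟨?_⟩, fun g hg => hle ⟨g, hg, rfl⟩⟩)
    exact ((φ.range.comap (MulAut.conj x).toMonoidHom).equivMapOfInjective _ (MulAut.conj x).injective).trans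
      ((MulEquiv.subgroupCongr (Subgroup.map_comap_eq_self_of_surjective (MulAut.conj x).surjective _)).trans
        (MonoidHom.ofInjective hφ).symm)

end Cfsg.Agent.Lib.SzSubgroups
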