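import Cfsg.Agent.Lib.SzSubgroups.Field
import Mathlib

/-!
Non-solvable proper subgroups of the Suzuki group are conjugate to subfield subgroups.
-/

set_option autoImplicit false
set_option linter.unusedSectionVars false
set_option linter.style.haveILetI false

namespace Cfsg.Agent.Lib.SzSubgroups

open Cfsg.Agent.Lib.LieTwisted.Suzuki Cfsg.Agent.Lib.SzTori Cfsg.Agent.Lib.SzSolubilizer
open Cfsg.Agent.Lib.SzElements.Basic
open scoped Matrix

variable {F : Type*} [Field F] [Fintype F] {m : ℕ}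

local notation "∞'" => (opt m (none : Option (F × F)))
local notation "mu'" => SzSubfield.Basic.mu m

variable (h : IsSzField F m) (hm : 1 ≤ m)

include h hm

/-- A moving subgroup, normalised so that it contains the torus of its subfield. -/
structure Core (M : Subgroup (Cfsg.Sz F m)) : Prop where
  toMoving : Moving h M
  torus : ∀ e : Fˣ, (e : F) ∈ toMoving.field h hm → dS h e ∈ M
  big : ∃ c ∈ toMoving.field h hm, c ≠ 0 ∧ c ≠ 1

variable {M : Subgroup (Cfsg.Sz F m)}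

theorem Core.snd_mem (hM : Core h hm M) {a b : F} (hab : uS h a b ∈ M) :
    b ∈ hM.toMoving.field h hm := by
  set K := hM.toMoving.field h hm with hK
  have haK : a ∈ K := hM.toMoving.fst_mem h hm hab
  by_cases ha : a = 0
  · subst ha; exact hab
  obtain ⟨c, hc, hc0, hc1⟩ := hM.big
  have hd0 : 1 + c ≠ 0 := fun e => hc1 (by linear_combination e - h.two0)
  have conjE : ∀ e : F, e ∈ K → e ≠ 0 → uS h (sg m e * a) (sg m e * e ^ 2 * b) ∈ M := by
    intro e he he0
    have hdM := hM.torus (Units.mk0 e he0) he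
    have := M.mul_mem (M.mul_mem hdM hab) (M.inv_mem hdM)
    rwa [h.dS_mul_uS, Units.val_mk0, mul_inv_cancel_right] at this
  have h1 := M.mul_mem hab (conjE c hc hc0)
  have h2 := conjE (1 + c) (add_mem (one_mem K) hc) hd0
  rw [h.uS_mul] at h1
  have h3 := M.mul_mem (M.inv_mem h1) h2
  rw [h.uS_inv, h.uS_mul] at h3
  have hfst : a + sg m c * a + sg m (1 + c) * a = 0 := by
    rw [h.sg_add, sg_one]
    linear_combination (a + sg m c * a) * h.two0
  rw [hfst] at h3
  have hzero : (1 + sg m c * c ^ 2 + sg m (1 + c) * (1 + c) ^ 2) ≠ 0 := by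
    have e : 1 + sg m c * c ^ 2 + sg m (1 + c) * (1 + c) ^ 2 = sg m c + c ^ 2 := by
      rw [h.sg_add, sg_one]
      linear_combination (1 + sg m c * c ^ 2 + c + sg m c * c) * h.two0
    rw [e]
    intro z
    have : sg m c = sg m (sg m c) := by rw [h.sg_sg]; linear_combination z - c ^ 2 * h.two0
    exact h.sg_ne_self hc0 hc1 (h.sg_injective this).symm
  generalize hk : 1 + sg m c * c ^ 2 + sg m (1 + c) * (1 + c) ^ 2 = k at hzero
  have hkK : k ∈ K := by
    rw [← hk]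
    exact add_mem (add_mem (one_mem K) (mul_mem (hM.toMoving.sg_mem h hm hc) (pow_mem hc 2)))
      (mul_mem (hM.toMoving.sg_mem h hm (add_mem (one_mem K) hc)) (pow_mem (add_mem (one_mem K) hc) 2))
  have hsK : ∀ {x : F}, x ∈ K → sg m x ∈ K := fun hx => hM.toMoving.sg_mem h hm hx
  have hc' : sg m c * a ∈ K := mul_mem (hsK hc) haK
  have hs : sg m a * (sg m c * a) ∈ K := mul_mem (hsK haK) hc'
  have ht : sg m (a + sg m c * a) * (a + sg m c * a) ∈ K :=
    mul_mem (hsK (add_mem haK hc')) (add_mem haK hc')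
  have hr : sg m (a + sg m c * a) * (sg m (1 + c) * a) ∈ K :=
    mul_mem (hsK (add_mem haK hc')) (mul_mem (hsK (add_mem (one_mem K) hc)) haK)
  have h4 := sub_mem (sub_mem (sub_mem ((hM.toMoving.mem_field h hm).mpr h3) hs) ht) hr
  refine (by field_simp : k * b / k = b) ▸ div_mem ?_ hkK
  rw [← hk]
  convert h4 using 1
  ring

theorem Core.split (hM : Core h hm M) {a b : F} {e : Fˣ} (hg : uS h a b * dS h e ∈ M) :
    uS h a b ∈ M ∧ a ∈ hM.toMoving.field h hm ∧ b ∈ hM.toMoving.field h hm ∧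
      (e : F) ∈ hM.toMoving.field h hm := by
  have he := hM.toMoving.torus_mem_field h hm hg
  have hu := M.mul_mem hg (M.inv_mem (hM.torus e he))
  rw [mul_inv_cancel_right] at hu
  exact ⟨hu, hM.toMoving.fst_mem h hm hu, hM.snd_mem h hm hu, he⟩

/-- If `M` contains a root element of order four, it contains all those of its subfield. -/
theorem Core.full (hM : Core h hm M) {a b : F} (hab : uS h a b ∈ M) (ha : a ≠ 0) {a' b' : F}
    (ha' : a' ∈ hM.toMoving.field h hm) (hb' : b' ∈ hM.toMoving.field h hm) : uS h a' b' ∈ M := by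
  by_cases h0 : a' = 0
  · subst h0; exact hb'
  obtain ⟨e, he⟩ := h.sg_surjective (a' / a)
  have heK : e ∈ hM.toMoving.field h hm :=
    hM.toMoving.mem_of_sg h hm (he ▸ div_mem ha' (hM.toMoving.fst_mem h hm hab))
  have he0 : e ≠ 0 := fun z => by
    rw [z, sg_zero] at he
    exact div_ne_zero h0 ha he.symm
  have hdM := hM.torus (Units.mk0 e he0) heK
  have h1 := M.mul_mem (M.mul_mem hdM hab) (M.inv_mem hdM)
  rw [h.dS_mul_uS, Units.val_mk0, mul_inv_cancel_right, he, div_mul_cancel₀ _ ha] at h1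
  set B := a' / a * e ^ 2 * b
  have hB : B ∈ hM.toMoving.field h hm := hM.snd_mem h hm h1
  have hz : uS h 0 (B + b') ∈ M := add_mem hB hb'
  have := M.mul_mem hz h1
  rw [h.uS_mul, zero_add, sg_zero, zero_mul, add_zero,
    show B + b' + B = b' by linear_combination B * h.two0] at this
  exact this

/-- Every point of the orbit other than `∞` is given by a root element of `M`, and is exchanged
with `∞` by an element of `M`. -/
theorem Core.orbit (hM : Core h hm M) {g : Cfsg.Sz F m} (hg : g ∈ M) (hgne : g • ∞' ≠ ∞') :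
    ∃ x y, uS h x y ∈ M ∧ x ∈ hM.toMoving.field h hm ∧ y ∈ hM.toMoving.field h hm ∧
      g • ∞' = opt m (some (x, y)) ∧
      ∃ t ∈ M, t • ∞' = opt m (some (x, y)) ∧ t • opt m (some (x, y)) = ∞' := by
  classical
  let K := hM.toMoving.field h hm
  obtain ⟨c, hc, hc0, hc1⟩ := hM.big
  let Δ := {P : Projectivization F (Fin 4 → F) // (∃ g ∈ M, g • ∞' = P) ∧ P ≠ ∞'}
  let I := {t : Cfsg.Sz F m // t ∈ M ∧ t ^ 2 = 1 ∧ t • ∞' ≠ ∞'}
  let V := {b : F // b ∈ K ∧ b ≠ 0}
  let f : I → Δ := fun t => ⟨t.1 • ∞', ⟨t.1, t.2.1, rfl⟩, t.2.2.2⟩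
  have hrep : ∀ P : Δ, ∃ g ∈ M, g • ∞' = P.1 := fun P => P.2.1
  choose rep hrepM hrep using hrep
  have hIP : IsPt m ∞' := ⟨none, rfl⟩
  have hj : ∀ (P : Δ) (b : V),
      rep P * uS h 0 b.1 * (rep P)⁻¹ ∈ M ∧ (rep P * uS h 0 b.1 * (rep P)⁻¹) ^ 2 = 1 ∧
      (rep P * uS h 0 b.1 * (rep P)⁻¹) • P.1 = P.1 ∧
      (rep P * uS h 0 b.1 * (rep P)⁻¹) • ∞' ≠ ∞' := by
    intro P b
    have hfix : (rep P * uS h 0 b.1 * (rep P)⁻¹) • P.1 = P.1 := by
      rw [← hrep P, mul_smul, mul_smul, inv_smul_smul, h.uS_smul_none]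
    have hsq : (rep P * uS h 0 b.1 * (rep P)⁻¹) ^ 2 = 1 := by
      rw [conj_pow, uS_central_sq h hm, mul_one, mul_inv_cancel]
    refine ⟨M.mul_mem (M.mul_mem (hrepM P) b.2.1) (M.inv_mem (hrepM P)), hsq, hfix, fun hi => ?_⟩
    have h4 : (rep P * uS h 0 b.1 * (rep P)⁻¹) ^ 4 = 1 := by
      exact (pow_mul _ 2 2).trans (by rw [hsq, one_pow])
    refine P.2.2 (fix_unique h hm (hrep P ▸ isPt_smul h hm (rep P) hIP) hIP h4 ?_ hfix hi)
    rw [Ne, conj_eq_one_iff]
    exact uS_central_ne_one h hm b.2.2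
  let j : Δ × V → I := fun q => ⟨rep q.1 * uS h 0 q.2.1 * (rep q.1)⁻¹, (hj q.1 q.2).1,
    (hj q.1 q.2).2.1, (hj q.1 q.2).2.2.2⟩
  have hjinj : Function.Injective j := by
    rintro ⟨P, b⟩ ⟨Q, b'⟩ e
    have e1 : rep P * uS h 0 b.1 * (rep P)⁻¹ = rep Q * uS h 0 b'.1 * (rep Q)⁻¹ := congrArg Subtype.val e
    have hPQ : P = Q := by
      refine Subtype.ext (fix_unique h hm (g := rep P * uS h 0 b.1 * (rep P)⁻¹)
        (hrep P ▸ isPt_smul h hm (rep P) hIP) (hrep Q ▸ isPt_smul h hm (rep Q) hIP) ?_ ?_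
        (hj P b).2.2.1 ?_)
      · exact (pow_mul _ 2 2).trans (by rw [(hj P b).2.1, one_pow])
      · rw [Ne, conj_eq_one_iff]; exact uS_central_ne_one h hm b.2.2
      · rw [e1]; exact (hj Q b').2.2.1
    subst hPQ
    rw [Prod.mk.injEq]
    refine ⟨rfl, Subtype.ext (h.uS_coords_inj (mul_left_cancel (mul_right_cancel e1))).2⟩
  let fib := fun P : Δ => {t : I // f t = P}
  have hco : ∀ (P : Δ) (t₀ t : fib P), (t₀.1.1 * t.1.1) • ∞' = ∞' ∧
      (t₀.1.1 * t.1.1) • P.1 = P.1 := by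
    intro P t₀ t
    have hswap : ∀ s : fib P, s.1.1 • ∞' = P.1 ∧ s.1.1 • P.1 = ∞' := fun s => by
      have e : s.1.1 • ∞' = P.1 := congrArg Subtype.val s.2
      refine ⟨e, ?_⟩
      rw [← e, ← mul_smul, ← sq, s.1.2.2.1, one_smul]
    exact ⟨by rw [mul_smul, (hswap t).1, (hswap t₀).2], by rw [mul_smul, (hswap t).2, (hswap t₀).1]⟩
  have hcoord : ∀ (P : Δ) (t₀ t : fib P), ∃ a b, ∃ e : Fˣ, t₀.1.1 * t.1.1 = uS h a b * dS h e :=
    fun P t₀ t => h.eq_of_fix_none hm (hco P t₀ t).1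
  choose ca cb ce hce using hcoord
  have hceK : ∀ (P : Δ) (t₀ t : fib P), (ce P t₀ t : F) ∈ K := fun P t₀ t =>
    hM.toMoving.torus_mem_field h hm (c := ca P t₀ t) (d := cb P t₀ t)
      (hce P t₀ t ▸ M.mul_mem t₀.1.2.1 t.1.2.1)
  have hinjfib : ∀ (P : Δ) (t₀ : fib P), Function.Injective fun t : fib P =>
      (⟨(ce P t₀ t : F), hceK P t₀ t, Units.ne_zero _⟩ : V) := by
    intro P t₀ t t' e
    have e1 : ce P t₀ t = ce P t₀ t' := Units.ext (congrArg Subtype.val e)
    set d := t₀.1.1 * t.1.1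
    set d' := t₀.1.1 * t'.1.1
    have hd : d' * d⁻¹ ∈ unip h := by
      have q1 : d = _ := hce P t₀ t
      have q2 : d' = _ := hce P t₀ t'
      rw [q1, q2, e1, mul_inv_rev, mul_assoc, ← mul_assoc (dS h _), mul_inv_cancel, one_mul]
      exact (unip h).mul_mem (h.uS_mem _ _) ((unip h).inv_mem (h.uS_mem _ _))
    have hfixP : (d' * d⁻¹) • P.1 = P.1 := by
      rw [mul_smul, inv_smul_eq_iff.mpr (hco P t₀ t).2.symm, (hco P t₀ t').2]
    have : d' * d⁻¹ = 1 := by
      by_contra hne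
      obtain ⟨a, b, hab⟩ := hd
      obtain ⟨p, hp⟩ : IsPt m P.1 := hrep P ▸ isPt_smul h hm (rep P) hIP
      rw [hab, hp] at hfixP
      refine P.2.2 ?_
      rw [hp, fix_point h (fun z => hne (by rw [hab, z.1, z.2, h.uS_zero])) hfixP]
    exact Subtype.ext (Subtype.ext (mul_left_cancel (mul_inv_eq_one.mp this).symm))
  have hle : ∀ P : Δ, Nat.card (fib P) ≤ Nat.card V := fun P => by
    rcases isEmpty_or_nonempty (fib P) with he | ⟨⟨t₀⟩⟩
    · simp [Nat.card_of_isEmpty]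
    · exact Nat.card_le_card_of_injective _ (hinjfib P t₀)
  haveI : Fintype Δ := Fintype.ofFinite Δ
  have hsum : ∑ P : Δ, Nat.card (fib P) = Nat.card I := by
    rw [← Nat.card_sigma]
    exact Nat.card_congr (Equiv.sigmaFiberEquiv f)
  have heq : ∀ P : Δ, Nat.card (fib P) = Nat.card V := by
    have h1 := Nat.card_le_card_of_injective j hjinj
    rw [Nat.card_prod, ← hsum, Nat.card_eq_fintype_card (α := Δ)] at h1
    have h2 : ∑ P : Δ, Nat.card (fib P) = ∑ _P : Δ, Nat.card V := by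
      refine le_antisymm (Finset.sum_le_sum fun P _ => hle P) ?_
      rw [Finset.sum_const, Finset.card_univ, smul_eq_mul]
      exact h1
    intro P
    exact (Finset.sum_eq_sum_iff_of_le fun Q _ => hle Q).mp h2 P (Finset.mem_univ P)
  let P : Δ := ⟨g • ∞', ⟨g, hg, rfl⟩, hgne⟩
  haveI : Nonempty V := ⟨⟨c, hc, hc0⟩⟩
  obtain ⟨t₀⟩ : Nonempty (fib P) := (Nat.card_pos_iff.mp (by rw [heq P]; exact Nat.card_pos)).1
  obtain ⟨t, ht⟩ := (hinjfib P t₀).bijective_of_nat_card_le (heq P).ge |>.2 ⟨c, hc, hc0⟩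
  have hd1 := hce P t₀ t
  have hec : (ce P t₀ t : F) = c := congrArg Subtype.val ht
  have hdM : uS h (ca P t₀ t) (cb P t₀ t) * dS h (ce P t₀ t) ∈ M := hd1 ▸ M.mul_mem t₀.1.2.1 t.1.2.1
  obtain ⟨huM, haK, hbK, heK⟩ := hM.split h hm hdM
  obtain ⟨p, hp⟩ : IsPt m P.1 := isPt_smul h hm g hIP
  rcases p with _ | ⟨x, y⟩
  · exact absurd hp P.2.2
  have hfix := (hco P t₀ t).2
  rw [hd1, hp, mul_smul, h.dS_smul_some, h.uS_smul_some] at hfix
  obtain ⟨f1, f2⟩ := Prod.ext_iff.1 (Option.some.inj (opt_injective hfix))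
  simp only [hec] at f1 f2
  generalize ca P t₀ t = a at *
  generalize cb P t₀ t = b at *
  have he1 : Units.mk0 c hc0 ≠ 1 := fun z => hc1 (congrArg Units.val z)
  have n1 : 1 + sg m c ≠ 0 := fun z => sg_ne_one h hm he1
    (by rw [Units.val_mk0]; linear_combination z - h.two0)
  have n2 : 1 + sg m c * c ^ 2 ≠ 0 := fun z => mu_ne_one h hm he1
    (by rw [Units.val_mk0]; linear_combination z - h.two0)
  have hxa : x * (1 + sg m c) = a := by linear_combination -f1 + (sg m c * x) * h.two0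
  have hsc := hM.toMoving.sg_mem h hm hc
  have hxK : x ∈ K := by
    rw [show x = a / (1 + sg m c) by rw [eq_div_iff n1, hxa]]
    exact div_mem haK (add_mem (one_mem K) hsc)
  have hyK : y ∈ K := by
    rw [show y = (b + sg m a * (sg m c * x)) / (1 + sg m c * c ^ 2) by
      rw [eq_div_iff n2]; linear_combination -f2 + (sg m c * c ^ 2 * y) * h.two0]
    exact div_mem (add_mem hbK (mul_mem (hM.toMoving.sg_mem h hm haK) (mul_mem hsc hxK)))
      (add_mem (one_mem K) (mul_mem hsc (pow_mem hc 2)))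
  have hxy : uS h x y ∈ M := by
    by_cases hx : x = 0
    · subst hx; exact hyK
    · exact hM.full h hm huM (hxa ▸ mul_ne_zero hx n1) hxK hyK
  have hswap : t₀.1.1 • ∞' = P.1 := congrArg Subtype.val t₀.2
  refine ⟨x, y, hxy, hxK, hyK, hp, t₀.1.1, t₀.1.2.1, hswap.trans hp, ?_⟩
  rw [← hp, ← hswap, ← mul_smul, ← sq, t₀.1.2.2.1, one_smul]

omit hm in
theorem wS_smul_central {y : F} (hy : y ≠ 0) :
    wS h • opt m (some ((0 : F), y)) = opt m (some (y / sg m y, 0)) := by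
  have hz : zfun m (0 : F) y ≠ 0 := by simpa [zfun, sg_zero, sg_eq_zero] using hy
  refine smul_opt_of _ (zfun m (0 : F) y) ?_
  show mat (wS h) *ᵥ pt m (0 : F) y = zfun m (0 : F) y • pt m (y / sg m y) 0
  rw [h.mat_wS, h.wMat_pt hz]
  simp [zfun, sg_zero]

/-- The Weyl element and all root elements of the subfield lie in `M`. -/
theorem Core.weyl (hM : Core h hm M) :
    wS h ∈ M ∧ ∀ a b, a ∈ hM.toMoving.field h hm → b ∈ hM.toMoving.field h hm → uS h a b ∈ M := by
  set K := hM.toMoving.field h hm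
  obtain ⟨g, hg, hgne⟩ := hM.toMoving.moved
  obtain ⟨x, y, hxy, -, -, -, t, ht, ht1, ht2⟩ := hM.orbit h hm hg hgne
  set s := (uS h x y)⁻¹ * t * uS h x y with hs
  have hsM : s ∈ M := M.mul_mem (M.mul_mem (M.inv_mem hxy) ht) hxy
  have hs1 : s • ∞' = opt m (some (0, 0)) := by
    rw [hs, mul_smul, h.uS_smul_none, mul_smul, ht1, inv_smul_eq_iff, h.uS_smul_zero]
  have hs2 : s • opt m (some ((0 : F), (0 : F))) = ∞' := by
    rw [hs, mul_smul, h.uS_smul_zero, mul_smul, ht2, inv_smul_eq_iff, h.uS_smul_none]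
  obtain ⟨f, hf⟩ := h.eq_of_fix_two hm (g := wS h * s)
    (by rw [mul_smul, hs1, h.wS_smul_zero]) (by rw [mul_smul, hs2, h.wS_smul_none])
  have hsf : s = wS h * dS h f := by rw [← hf, ← mul_assoc, h.wS_mul_self, one_mul]
  set u := sg m (f : F) * (f : F) ^ 2 with hu
  have hu0 : u ≠ 0 := mul_ne_zero (mt sg_eq_zero.1 f.ne_zero) (pow_ne_zero 2 f.ne_zero)
  have hgM : s * uS h 0 1 * s ∈ M := M.mul_mem (M.mul_mem hsM hM.toMoving.one_mem) hsM
  have himg : (s * uS h 0 1 * s) • ∞' = opt m (some (u / sg m u, 0)) := by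
    rw [mul_smul, hs1, mul_smul, h.uS_smul_zero, hsf, mul_smul, h.dS_smul_some, mul_zero, mul_one]
    exact wS_smul_central h hu0
  obtain ⟨x', y', hxy', hx', -, e, -⟩ := hM.orbit h hm hgM
    (by rw [himg]; exact fun z => by simpa using opt_injective z)
  rw [himg] at e
  obtain ⟨e1, e2⟩ := Prod.ext_iff.1 (Option.some.inj (opt_injective e))
  simp only at e1 e2
  subst e1 e2
  have hall : ∀ a b, a ∈ K → b ∈ K → uS h a b ∈ M := fun a b ha hb =>
    hM.full h hm hxy' (div_ne_zero hu0 (mt sg_eq_zero.1 hu0)) ha hb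
  have huK : u ∈ K := by
    refine mem_of_map_mem _ (fun v => v / sg m v) ?_ (fun v hv =>
      div_mem hv (hM.toMoving.sg_mem h hm hv)) hx'
    intro v v' hvv
    have hdiv : ∀ {w : F}, w ≠ 0 → w / sg m w ≠ 0 := fun {w} hw =>
      div_ne_zero hw (mt sg_eq_zero.1 hw)
    by_cases hv : v = 0
    · subst hv
      by_contra hv'
      exact hdiv (Ne.symm hv') (hvv.symm.trans (zero_div _))
    by_cases hv' : v' = 0
    · subst hv'; exact absurd (hvv.trans (zero_div _)) (hdiv hv)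
    have hsv : sg m v ≠ 0 := mt sg_eq_zero.1 hv
    have hsv' : sg m v' ≠ 0 := mt sg_eq_zero.1 hv'
    have hr : sg m (v / v') = v / v' := by
      rw [div_eq_mul_inv, sg_mul, sg_inv]
      simp only at hvv
      field_simp at hvv ⊢
      linear_combination -hvv
    by_contra hne
    exact h.sg_ne_self (div_ne_zero hv hv') (fun z => hne ((div_eq_one_iff_eq hv').mp z)) hr
  have hfK : (f : F) ∈ K := hM.toMoving.mem_of_mu h hm huK
  refine ⟨?_, hall⟩
  have := M.mul_mem hsM (M.inv_mem (hM.torus f hfK))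
  rwa [hsf, mul_inv_cancel_right] at this

/-- The elements of `M` have their coordinates in the subfield. -/
theorem Core.elements (hM : Core h hm M) {g : Cfsg.Sz F m} (hg : g ∈ M) :
    ∃ a b e, a ∈ hM.toMoving.field h hm ∧ b ∈ hM.toMoving.field h hm ∧
      ((e : Fˣ) : F) ∈ hM.toMoving.field h hm ∧
      (g = uS h a b * dS h e ∨ ∃ x y, x ∈ hM.toMoving.field h hm ∧ y ∈ hM.toMoving.field h hm ∧
        g = uS h x y * wS h * (uS h a b * dS h e)) := by
  by_cases hfix : g • ∞' = ∞'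
  · obtain ⟨a, b, e, rfl⟩ := h.eq_of_fix_none hm hfix
    obtain ⟨-, ha, hb, he⟩ := hM.split h hm hg
    exact ⟨a, b, e, ha, hb, he, Or.inl rfl⟩
  · obtain ⟨x, y, hxy, hx, hy, hp, -⟩ := hM.orbit h hm hg hfix
    have hr : ((uS h x y * wS h)⁻¹ * g) • ∞' = ∞' := by
      rw [mul_smul, hp, inv_smul_eq_iff, mul_smul, h.wS_smul_none, h.uS_smul_zero]
    obtain ⟨a, b, e, hab⟩ := h.eq_of_fix_none hm hr
    have hrM : uS h a b * dS h e ∈ M := hab ▸ M.mul_mem
      (M.inv_mem (M.mul_mem hxy (hM.weyl h hm).1)) hg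
    obtain ⟨-, ha, hb, he⟩ := hM.split h hm hrM
    exact ⟨a, b, e, ha, hb, he, Or.inr ⟨x, y, hx, hy, by rw [← hab, mul_inv_cancel_left]⟩⟩

theorem Core.field_ne_top (hM : Core h hm M) (htop : M ≠ ⊤) :
    ∃ x : F, x ∉ hM.toMoving.field h hm := by
  by_contra hall
  push Not at hall
  obtain ⟨hw, hu⟩ := hM.weyl h hm
  exact htop (h.eq_top_of_unips hm (fun a b => hu a b (hall a) (hall b)) fun a b =>
    M.mul_mem (M.mul_mem hw (hu a b (hall a) (hall b))) hw)

/-- `M` lies in an embedded Suzuki group over its subfield. -/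
theorem Core.exists_emb (hM : Core h hm M) (htop : M ≠ ⊤) :
    ∃ (K : Type) (_ : Field K) (_ : Fintype K) (k : ℕ), 1 ≤ k ∧ k < m ∧
      Fintype.card K = 2 ^ (2 * k + 1) ∧ 2 * k + 1 ∣ 2 * m + 1 ∧
      ∃ φ : Cfsg.Sz K k →* Cfsg.Sz F m, Function.Injective φ ∧ M ≤ φ.range := by
  classical
  set V := hM.toMoving.field h hm with hV
  haveI : CharP F 2 := h.charTwo
  haveI : Fact (Nat.Prime 2) := ⟨Nat.prime_two⟩
  letI : Fintype V := Fintype.ofFinite V
  haveI : CharP V 2 := (V.subtype.charP_iff Subtype.val_injective 2).mpr inferInstance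
  obtain ⟨a, -, ha⟩ := FiniteField.card V 2
  have hdim := Module.card_eq_pow_finrank (K := V) (V := F)
  rw [h.card, ha, ← pow_mul] at hdim
  have hd : (a : ℕ) ∣ 2 * m + 1 := ⟨_, Nat.pow_right_injective le_rfl hdim⟩
  obtain ⟨k, hk⟩ : Odd (a : ℕ) := Odd.of_dvd_nat (odd_two_mul_add_one m) hd
  rw [hk] at hd ha
  obtain ⟨c, hc, hc0, hc1⟩ := hM.big
  have hk1 : 1 ≤ k := by
    by_contra hk0
    rw [show k = 0 by omega] at ha
    have h3 : 3 ≤ Fintype.card V := by
      refine le_trans ?_ (Finset.card_le_univ {(0 : V), 1, ⟨c, hc⟩})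
      rw [Finset.card_eq_three.mpr ⟨0, 1, ⟨c, hc⟩, zero_ne_one,
        fun z => hc0 (congrArg Subtype.val z).symm, fun z => hc1 (congrArg Subtype.val z).symm, rfl⟩]
    rw [ha] at h3
    norm_num at h3
  obtain ⟨x₀, hx₀⟩ := hM.field_ne_top h hm htop
  have hkm : k < m := by
    have hle := Nat.le_of_dvd (by omega) hd
    refine lt_of_le_of_ne (by omega) fun e => hx₀ ?_
    subst e
    have hbij : Function.Bijective (fun v : V => (v : F)) :=
      Subtype.val_injective.bijective_of_nat_card_le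
        (by rw [Nat.card_eq_fintype_card, Nat.card_eq_fintype_card, h.card, ha])
    obtain ⟨v, hv⟩ := hbij.2 x₀
    exact hv ▸ v.2
  let K := GaloisField 2 (2 * k + 1)
  letI : Fintype K := Fintype.ofFinite K
  have hKc : Fintype.card K = 2 ^ (2 * k + 1) := by
    rw [← Nat.card_eq_fintype_card]; exact GaloisField.card 2 _ (by omega)
  refine ⟨K, inferInstance, inferInstance, k, hk1, hkm, hKc, hd, ?_⟩
  have hK' : IsSzField K k := ⟨hKc⟩
  letI : Algebra (ZMod 2) F := ZMod.algebra F 2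
  have dK : Module.finrank (ZMod 2) K = 2 * k + 1 := GaloisField.finrank 2 (by omega)
  have dF : Module.finrank (ZMod 2) F = 2 * m + 1 :=
    Nat.pow_right_injective le_rfl ((FiniteField.pow_finrank_eq_card 2 F).trans h.card)
  obtain ⟨σ⟩ := FiniteField.nonempty_algHom_of_finrank_dvd (F := ZMod 2) (K := K) (L := F)
    (by rw [dK, dF]; exact hd)
  have hsg : ∀ x : K, σ.toRingHom (sg k x) = sg m (σ.toRingHom x) := by
    intro x
    obtain ⟨d, hd'⟩ := hd
    obtain ⟨j, rfl⟩ : Odd d := Nat.Odd.of_mul_right (hd' ▸ odd_two_mul_add_one m)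
    have hm' : m + 1 = (2 * k + 1) * j + (k + 1) := by nlinarith
    show σ.toRingHom (x ^ 2 ^ (k + 1)) = σ.toRingHom x ^ 2 ^ (m + 1)
    rw [← map_pow, hm', pow_add 2 ((2 * k + 1) * j), pow_mul x, pow_mul 2 (2 * k + 1) j, ← hKc,
      FiniteField.pow_card_pow]
  have hsurj : ∀ x ∈ V, ∃ z : K, σ.toRingHom z = x := by
    intro x hx
    let P : Polynomial F := Polynomial.X ^ (2 ^ (2 * k + 1)) - Polynomial.X
    have h12 : 1 < 2 ^ (2 * k + 1) := Nat.one_lt_two_pow (by omega)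
    have hP0 : P ≠ 0 := FiniteField.X_pow_card_sub_X_ne_zero F h12
    have hroot : ∀ v : F, v ^ 2 ^ (2 * k + 1) = v → v ∈ P.roots.toFinset := fun v hv => by
      rw [Multiset.mem_toFinset, Polynomial.mem_roots hP0, Polynomial.IsRoot.def]
      simp [P, hv]
    have hxroot : x ∈ P.roots.toFinset := hroot x (by
      rw [← ha]; exact congrArg Subtype.val (FiniteField.pow_card (⟨x, hx⟩ : V)))
    have hsub : Finset.univ.image σ.toRingHom ⊆ P.roots.toFinset := by
      intro v hv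
      obtain ⟨z, -, rfl⟩ := Finset.mem_image.mp hv
      exact hroot _ (by rw [← map_pow, ← hKc, FiniteField.pow_card])
    have hcard : (Finset.univ.image σ.toRingHom).card = 2 ^ (2 * k + 1) := by
      rw [Finset.card_image_of_injective _ σ.toRingHom.injective, Finset.card_univ, hKc]
    have hle : P.roots.toFinset.card ≤ 2 ^ (2 * k + 1) :=
      le_trans (Multiset.toFinset_card_le _) (le_trans (Polynomial.card_roots' P)
        (le_of_eq (FiniteField.X_pow_card_sub_X_natDegree_eq F h12)))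
    rw [← Finset.eq_of_subset_of_card_le hsub (hcard ▸ hle)] at hxroot
    obtain ⟨z, -, hz⟩ := Finset.mem_image.mp hxroot
    exact ⟨z, hz⟩
  let φ := SzSubfield.Basic.emb h hK' hm hk1 σ.toRingHom hsg
  refine ⟨φ, SzSubfield.Basic.emb_injective h hK' hm hk1 σ.toRingHom hsg, fun g hg => ?_⟩
  obtain ⟨a', b', e, ha', hb', he, hge⟩ := hM.elements h hm hg
  have hu : ∀ {x y : F}, x ∈ V → y ∈ V → uS h x y ∈ φ.range := fun {x y} hx hy => by
    obtain ⟨z, rfl⟩ := hsurj x hx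
    obtain ⟨z', rfl⟩ := hsurj y hy
    exact ⟨uS hK' z z', SzSubfield.Basic.emb_uS h hK' hm hk1 σ.toRingHom hsg z z'⟩
  have hd' : dS h e ∈ φ.range := by
    obtain ⟨z, hz⟩ := hsurj e he
    have hz0 : z ≠ 0 := fun w => e.ne_zero (by rw [← hz, w, map_zero])
    refine ⟨dS hK' (Units.mk0 z hz0), ?_⟩
    rw [SzSubfield.Basic.emb_dS h hK' hm hk1 σ.toRingHom hsg]
    congr 1
    exact Units.ext hz
  have hw : wS h ∈ φ.range := ⟨wS hK', SzSubfield.Basic.emb_wS h hK' hm hk1 σ.toRingHom hsg⟩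
  rcases hge with rfl | ⟨x, y, hx, hy, rfl⟩
  · exact mul_mem (hu ha' hb') hd'
  · exact mul_mem (mul_mem (hu hx hy) hw) (mul_mem (hu ha' hb') hd')

end Cfsg.Agent.Lib.SzSubgroups
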