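import Cfsg.Agent.Lib.SzMultiplier.Odd
import Cfsg.Agent.Lib.SzSolubilizer.Solvable
import Cfsg.Agent.Lib.SzSolubilizer.Pairs
import Mathlib

/-!
Subgroups of the Suzuki groups with cyclic Sylow two-subgroups are solvable; involutions with
different fixed points are conjugate in any subgroup containing them.
-/

set_option autoImplicit false
set_option linter.unusedSectionVars false
set_option linter.style.haveILetI false

namespace Cfsg.Agent.Lib.SzSubgroups

open Cfsg.Agent.Lib.LieTwisted.Suzuki Cfsg.Agent.Lib.SzTori Cfsg.Agent.Lib.SzSolubilizer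

variable {F : Type*} [Field F] [Fintype F] {m : ℕ}

local notation "∞'" => (opt m (none : Option (F × F)))

variable (h : IsSzField F m) (hm : 1 ≤ m)

include h hm

theorem pow_four_of_two_group (D : Subgroup (Cfsg.Sz F m)) (hD : IsPGroup 2 D) :
    ∀ d ∈ D, d ^ 4 = 1 := by
  haveI := Fact.mk Nat.prime_two
  obtain ⟨S, hS⟩ := h.exists_sylow hm
  obtain ⟨Q, hQ⟩ := hD.exists_le_sylow
  obtain ⟨g, hg⟩ := MulAction.exists_smul_eq (Cfsg.Sz F m) S Q
  intro d hd
  have h1 := hQ hd
  rw [← hg, Sylow.coe_subgroup_smul, hS] at h1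
  obtain ⟨u, hu, rfl⟩ := h1
  change (g * u * g⁻¹) ^ 4 = 1
  rw [conj_pow, pow_four_of_mem h hm hu, mul_one, mul_inv_cancel]

theorem odd_pgroup_cyclic {r : ℕ} [Fact r.Prime] (hr2 : r ≠ 2) (D : Subgroup (Cfsg.Sz F m))
    (hD : IsPGroup r D) : IsCyclic D := by
  obtain ⟨Q, hQ⟩ := hD.exists_le_sylow
  suffices hc : IsCyclic (Q : Subgroup (Cfsg.Sz F m)) from cyclic_of_le hc hQ
  by_cases hd : r ∣ Fintype.card F ^ 2 + 1
  · exact SzMultiplier.Odd.sylow_cyclic h hr2 hd Q
  · have hr : r.Prime := Fact.out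
    obtain ⟨R⟩ : Nonempty (Sylow r (dS h).range) := inferInstance
    have hq : ¬ r ∣ Fintype.card F ^ 2 := fun hc => hr2 ((Nat.prime_dvd_prime_iff_eq hr Nat.prime_two).1
      (hr.dvd_of_dvd_pow (by rw [h.card] at hc; exact hr.dvd_of_dvd_pow hc)))
    have h2 := h.two_lt_card hm
    have hv : (Nat.card (Cfsg.Sz F m)).factorization r =
        (Nat.card (dS h).range).factorization r := by
      rw [h.card_group hm, card_range_dS h hm,
        Nat.factorization_mul (by positivity) (by omega),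
        Nat.factorization_mul (by positivity) (by positivity), Finsupp.add_apply, Finsupp.add_apply,
        Nat.factorization_eq_zero_of_not_dvd hq, Nat.factorization_eq_zero_of_not_dvd hd, zero_add,
        zero_add]
    let R' : Subgroup (Cfsg.Sz F m) := (R : Subgroup (dS h).range).map (dS h).range.subtype
    have hR' : Nat.card R' = r ^ (Nat.card (Cfsg.Sz F m)).factorization r := by
      rw [hv, ← R.card_eq_multiplicity]
      exact (Nat.card_congr (Subgroup.equivMapOfInjective _ _ Subtype.val_injective).toEquiv).symm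
    haveI : IsCyclic (dS h).range := isCyclic_of_surjective (dS h).rangeRestrict (dS h).rangeRestrict_surjective
    haveI : IsCyclic R' := cyclic_of_le ‹IsCyclic (dS h).range› (Subgroup.map_subtype_le _)
    haveI : IsCyclic (Sylow.ofCard R' hR' : Subgroup (Cfsg.Sz F m)) := by
      rw [Sylow.coe_ofCard]; infer_instance
    exact isCyclic_of_surjective ((Sylow.equiv (Sylow.ofCard R' hR') Q).toMonoidHom)
      (Sylow.equiv (Sylow.ofCard R' hR') Q).surjective

theorem solvable_of_two_cyclic (M : Subgroup (Cfsg.Sz F m))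
    (h2 : ∀ D : Sylow 2 M, IsCyclic (D : Subgroup M)) : Group.IsSolvable M := by
  haveI : IsZGroup M := by
    refine ⟨fun p hp P => ?_⟩
    haveI := Fact.mk hp
    by_cases hp2 : p = 2
    · subst hp2; exact h2 P
    · have hc := odd_pgroup_cyclic h hm hp2 _ (P.isPGroup'.map M.subtype)
      exact isCyclic_of_surjective
        ((P : Subgroup M).equivMapOfInjective M.subtype M.subtype_injective).symm.toMonoidHom
        (MulEquiv.surjective _)
  infer_instance

/-- Two involutions of `M` with different fixed points are conjugate in `M`. -/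
theorem conj_of_fix_ne (M : Subgroup (Cfsg.Sz F m)) {t t' : Cfsg.Sz F m} (ht : t ∈ M) (ht' : t' ∈ M)
    (h1 : t ^ 2 = 1) (h1' : t' ^ 2 = 1) (n1 : t ≠ 1) (n1' : t' ≠ 1)
    {P P' : Projectivization F (Fin 4 → F)} (hP : IsPt m P) (hP' : IsPt m P') (tP : t • P = P)
    (tP' : t' • P' = P') (hne : P ≠ P') : ∃ d ∈ M, d * t * d⁻¹ = t' := by
  have e4 : ∀ {s : Cfsg.Sz F m}, s ^ 2 = 1 → s ^ 4 = 1 := fun {s} hs => by
    exact (pow_mul s 2 2).trans (by rw [hs, one_pow])
  have tt : t * t = 1 := by rw [← sq, h1]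
  have tt' : t' * t' = 1 := by rw [← sq, h1']
  set x := t * t' with hx
  have hi : t * x * t = x⁻¹ := by
    rw [hx, mul_inv_rev, inv_eq_of_mul_eq_one_right tt, inv_eq_of_mul_eq_one_right tt', ← mul_assoc,
      tt, one_mul]
  have hconj : ∀ n : ℕ, t * x ^ n * t = (x ^ n)⁻¹ := fun n => by
    rw [← inv_pow, ← hi]
    have ti : t⁻¹ = t := inv_eq_of_mul_eq_one_right tt
    conv_rhs => rw [show t * x * t = t * x * t⁻¹ by rw [ti], conj_pow, ti]
  rcases Nat.even_or_odd (orderOf x) with ⟨j, hj⟩ | ⟨j, hj⟩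
  · exfalso
    have hj0 : 0 < j := by have := orderOf_pos x; omega
    have hz1 : x ^ j ≠ 1 := fun e => by
      have := Nat.le_of_dvd hj0 (orderOf_dvd_of_pow_eq_one e); omega
    have hz2 : (x ^ j) ^ 2 = 1 := by
      rw [← pow_mul, show j * 2 = orderOf x by omega, pow_orderOf_eq_one]
    have hc : t * x ^ j = x ^ j * t := by
      have := hconj j
      rw [inv_eq_of_mul_eq_one_right (by rw [← sq, hz2])] at this
      calc t * x ^ j = t * x ^ j * (t * t) := by rw [tt, mul_one]
        _ = (t * x ^ j * t) * t := by simp only [mul_assoc]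
        _ = x ^ j * t := by rw [this]
    have hc' : t' * x ^ j = x ^ j * t' := by
      rw [show t' = t * x by rw [hx, ← mul_assoc, tt, one_mul], mul_assoc,
        (Commute.self_pow x j).eq, ← mul_assoc, hc, mul_assoc]
    obtain ⟨s, hs⟩ := exists_fix_of_four h hm (e4 hz2) hz1
    have k : ∀ {u : Cfsg.Sz F m} {Q : Projectivization F (Fin 4 → F)}, u ^ 2 = 1 → u ≠ 1 → IsPt m Q →
        u • Q = Q → u * x ^ j = x ^ j * u → opt m s = Q := fun {u Q} hu hu1 hQ huQ hcu => by
      have : u • opt m s = opt m s :=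
        fix_unique h hm (isPt_smul h hm u ⟨s, rfl⟩) ⟨s, rfl⟩ (e4 hz2) hz1
          (by rw [← mul_smul, ← hcu, mul_smul, hs]) hs
      exact fix_unique h hm ⟨s, rfl⟩ hQ (e4 hu) hu1 this huQ
    exact hne ((k h1 n1 hP tP hc).symm.trans (k h1' n1' hP' tP' hc'))
  · refine ⟨(x ^ (j + 1))⁻¹, M.inv_mem (M.pow_mem (M.mul_mem ht ht') _), ?_⟩
    have := hconj (j + 1)
    rw [inv_inv, mul_assoc]
    calc (x ^ (j + 1))⁻¹ * (t * x ^ (j + 1)) = t * x ^ (j + 1) * t * (t * x ^ (j + 1)) := by rw [this]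
      _ = t * x ^ (j + 1) * (t * t) * x ^ (j + 1) := by simp only [mul_assoc]
      _ = t * x ^ (2 * j + 2) := by rw [tt, mul_one, mul_assoc, ← pow_add]; ring_nf
      _ = t * x := by rw [pow_succ, ← hj, pow_orderOf_eq_one, one_mul]
      _ = t' := by rw [hx, ← mul_assoc, tt, one_mul]

end Cfsg.Agent.Lib.SzSubgroups
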