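import Cfsg.Agent.Lib.SzSubgroups.Cyclic
import Cfsg.Agent.Lib.SzSubfield.Basic
import Mathlib

/-!
For a subgroup `M` of the Suzuki group with an involution and moving its fixed point, the centre
part of a root group meets `M` in a subfield, and the torus part is its multiplicative group.
-/

set_option autoImplicit false
set_option linter.unusedSectionVars false
set_option linter.style.haveILetI false

namespace Cfsg.Agent.Lib.SzSubgroups

open Cfsg.Agent.Lib.LieTwisted.Suzuki Cfsg.Agent.Lib.SzTori Cfsg.Agent.Lib.SzSolubilizer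
open Cfsg.Agent.Lib.SzElements.Basic

variable {F : Type*} [Field F] [Fintype F] {m : ℕ}

local notation "∞'" => (opt m (none : Option (F × F)))
local notation "mu'" => SzSubfield.Basic.mu m

/-- An injective map preserving a finite subfield reflects membership in it. -/
theorem mem_of_map_mem (K : Subfield F) (f : F → F) (hinj : Function.Injective f)
    (hf : ∀ x ∈ K, f x ∈ K) {a : F} (ha : f a ∈ K) : a ∈ K := by
  let g : K → K := fun x => ⟨f x, hf _ x.2⟩
  have hg : Function.Injective g := fun x y e => Subtype.ext (hinj (congrArg Subtype.val e))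
  obtain ⟨y, hy⟩ := Finite.injective_iff_surjective.mp hg ⟨f a, ha⟩
  rw [← hinj (congrArg Subtype.val hy)]
  exact y.2

variable (h : IsSzField F m) (hm : 1 ≤ m)

include h hm

theorem uS_central_ne_one {b : F} (hb : b ≠ 0) : uS h 0 b ≠ 1 := fun e =>
  hb (h.uS_coords_inj (e.trans h.uS_zero.symm)).2

theorem uS_central_sq (b : F) : uS h 0 b ^ 2 = 1 := by
  rw [h.uS_sq, sg_zero, zero_mul, h.uS_zero]

theorem central_fix {b : F} (hb : b ≠ 0) {P : Projectivization F (Fin 4 → F)} (hP : IsPt m P)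
    (hfix : uS h 0 b • P = P) : P = ∞' := by
  obtain ⟨p, rfl⟩ := hP
  rw [fix_point h (fun z => hb z.2) hfix]

theorem mu_injective_all : Function.Injective (mu' : F → F) := by
  have h0 : ∀ {x : F}, x ≠ 0 → mu' x ≠ 0 := fun {x} hx =>
    mul_ne_zero (mt sg_eq_zero.1 hx) (pow_ne_zero 2 hx)
  intro x y e
  by_cases hx : x = 0
  · by_contra hy
    subst hx
    exact h0 (Ne.symm hy) (e.symm.trans (by simp [SzSubfield.Basic.mu]))
  by_cases hy : y = 0
  · exact absurd (e.trans (by simp [SzSubfield.Basic.mu, hy])) (h0 hx)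
  exact congrArg Units.val (SzSubfield.Basic.mu_injective h (e := Units.mk0 x hx) (f := Units.mk0 y hy) e)

/-- The hypotheses on the subgroup. -/
structure Moving (M : Subgroup (Cfsg.Sz F m)) : Prop where
  one_mem : uS h 0 1 ∈ M
  moved : ∃ g ∈ M, g • ∞' ≠ ∞'

variable {M : Subgroup (Cfsg.Sz F m)}

theorem Moving.trans_center (hM : Moving h M) {b : F} (hb : b ≠ 0) (hbM : uS h 0 b ∈ M) :
    ∃ c d e, uS h c d * dS h e ∈ M ∧ mu' (e : F) = b := by
  obtain ⟨g, hg, hgne⟩ := hM.moved
  have hz : (g * uS h 0 1 * g⁻¹) ^ 2 = 1 := by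
    rw [conj_pow, uS_central_sq h hm, mul_one, mul_inv_cancel]
  have hz1 : g * uS h 0 1 * g⁻¹ ≠ 1 := by
    rw [Ne, conj_eq_one_iff]; exact uS_central_ne_one h hm one_ne_zero
  have hfix : (g * uS h 0 1 * g⁻¹) • (g • ∞') = g • ∞' := by
    rw [mul_smul, mul_smul, inv_smul_smul, h.uS_smul_none]
  have hzM : g * uS h 0 1 * g⁻¹ ∈ M := M.mul_mem (M.mul_mem hg hM.one_mem) (M.inv_mem hg)
  have hIP : IsPt m ∞' := ⟨none, rfl⟩
  obtain ⟨d₁, hd₁, e₁⟩ := conj_of_fix_ne h hm M hM.one_mem hzM (uS_central_sq h hm 1) hz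
    (uS_central_ne_one h hm one_ne_zero) hz1 hIP (isPt_smul h hm g hIP) (h.uS_smul_none 0 1) hfix
    (Ne.symm hgne)
  obtain ⟨d₂, hd₂, e₂⟩ := conj_of_fix_ne h hm M hzM hbM hz (uS_central_sq h hm b) hz1
    (uS_central_ne_one h hm hb) (isPt_smul h hm g hIP) hIP hfix (h.uS_smul_none 0 b) hgne
  have hk : d₂ * d₁ * uS h 0 1 * (d₂ * d₁)⁻¹ = uS h 0 b := by rw [← e₂, ← e₁]; group
  obtain ⟨c, d, e, he⟩ := borel_of_conj h hm (fun z => one_ne_zero z.2) (fun z => hb z.2) hk
  refine ⟨c, d, e, he ▸ M.mul_mem hd₂ hd₁, ?_⟩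
  rw [he, conj_center, mul_one] at hk
  exact (h.uS_coords_inj hk).2

theorem center_scale {c d : F} {e : Fˣ} (hk : uS h c d * dS h e ∈ M) {b : F} (hb : uS h 0 b ∈ M) :
    uS h 0 (mu' (e : F) * b) ∈ M := by
  have := M.mul_mem (M.mul_mem hk hb) (M.inv_mem hk)
  rwa [conj_center] at this

/-- The centre part of the root group in `M`, as a subfield. -/
def Moving.field (hM : Moving h M) : Subfield F :=
  have hzero : uS h 0 0 ∈ M := by rw [h.uS_zero]; exact M.one_mem
  have hmul : ∀ {a b : F}, uS h 0 a ∈ M → uS h 0 b ∈ M → uS h 0 (a * b) ∈ M := fun {a b} ha hb => by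
    by_cases h0 : a = 0
    · rw [h0, zero_mul]; exact hzero
    obtain ⟨c, d, e, hk, rfl⟩ := hM.trans_center h hm h0 ha
    exact center_scale h hm hk hb
  { carrier := {b | uS h 0 b ∈ M}
    mul_mem' := hmul
    one_mem' := hM.one_mem
    add_mem' := fun {a b} ha hb => by
      have := M.mul_mem ha hb
      simpa [h.uS_mul, sg_zero] using this
    zero_mem' := hzero
    neg_mem' := fun {a} ha => by rwa [Set.mem_setOf_eq, h.neg_eq]
    inv_mem' := fun a ha => by
      by_cases h0 : a = 0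
      · simpa [h0] using hzero
      have hp : ∀ n : ℕ, uS h 0 (a ^ n) ∈ M := fun n => by
        induction n with
        | zero => simpa using hM.one_mem
        | succ n ih => rw [pow_succ]; exact hmul ih ha
      have : a⁻¹ = a ^ (Fintype.card F - 2) := by
        refine inv_eq_of_mul_eq_one_right ?_
        rw [← pow_succ', show Fintype.card F - 2 + 1 = Fintype.card F - 1 by
          have := h.two_lt_card hm; omega, FiniteField.pow_card_sub_one_eq_one a h0]
      rw [Set.mem_setOf_eq, this]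
      exact hp _ }

theorem Moving.mem_field (hM : Moving h M) {b : F} : b ∈ hM.field h hm ↔ uS h 0 b ∈ M := Iff.rfl

theorem Moving.sg_mem (hM : Moving h M) {a : F} (ha : a ∈ hM.field h hm) :
    sg m a ∈ hM.field h hm := pow_mem ha _

theorem Moving.mem_of_sg (hM : Moving h M) {a : F} (ha : sg m a ∈ hM.field h hm) :
    a ∈ hM.field h hm :=
  mem_of_map_mem _ _ h.sg_injective (fun _ hx => hM.sg_mem h hm hx) ha

theorem Moving.mu_mem (hM : Moving h M) {a : F} (ha : a ∈ hM.field h hm) :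
    mu' a ∈ hM.field h hm := mul_mem (hM.sg_mem h hm ha) (pow_mem ha 2)

theorem Moving.mem_of_mu (hM : Moving h M) {a : F} (ha : mu' a ∈ hM.field h hm) :
    a ∈ hM.field h hm :=
  mem_of_map_mem _ _ (mu_injective_all h hm) (fun _ hx => hM.mu_mem h hm hx) ha

theorem Moving.mem_of_sq (hM : Moving h M) {a : F} (ha : sg m a * a ∈ hM.field h hm) :
    a ∈ hM.field h hm :=
  mem_of_map_mem _ (fun x => sg m x * x) (fun _ _ e => h.sg_mul_self_inj e)
    (fun _ hx => mul_mem (hM.sg_mem h hm hx) hx) ha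

theorem Moving.torus_mem_field (hM : Moving h M) {c d : F} {e : Fˣ}
    (hk : uS h c d * dS h e ∈ M) : (e : F) ∈ hM.field h hm := by
  refine hM.mem_of_mu h hm ?_
  have := center_scale h hm hk hM.one_mem
  rwa [mul_one] at this

theorem Moving.torus_exists (hM : Moving h M) {e : Fˣ} (he : (e : F) ∈ hM.field h hm) :
    ∃ c d, uS h c d * dS h e ∈ M := by
  have hne : mu' (e : F) ≠ 0 := mul_ne_zero (mt sg_eq_zero.1 e.ne_zero) (pow_ne_zero 2 e.ne_zero)
  obtain ⟨c, d, e', hk, he'⟩ := hM.trans_center h hm hne (hM.mu_mem h hm he)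
  exact ⟨c, d, SzSubfield.Basic.mu_injective h he' ▸ hk⟩

theorem Moving.fst_mem (hM : Moving h M) {a b : F} (hab : uS h a b ∈ M) : a ∈ hM.field h hm := by
  refine hM.mem_of_sq h hm ?_
  have := M.pow_mem hab 2
  rwa [h.uS_sq] at this

/-- A subgroup with at most one involution fixing `∞` has cyclic Sylow two-subgroups. -/
theorem Moving.two_cyclic (hM : Moving h M) (hsmall : ∀ b ∈ hM.field h hm, b = 0 ∨ b = 1) :
    ∀ D : Sylow 2 M, IsCyclic (D : Subgroup M) := by
  haveI := Fact.mk Nat.prime_two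
  intro D
  let z : M := ⟨uS h 0 1, hM.one_mem⟩
  have hz : IsPGroup 2 (Subgroup.zpowers z) := by
    refine IsPGroup.of_card (n := 1) ?_
    rw [Nat.card_zpowers, pow_one]
    exact orderOf_eq_prime (Subtype.ext (uS_central_sq h hm 1))
      fun e => uS_central_ne_one h hm one_ne_zero (congrArg Subtype.val e)
  obtain ⟨D₀, hD₀⟩ := hz.exists_le_sylow
  suffices hc : IsCyclic (D₀ : Subgroup M) from
    isCyclic_of_surjective (Sylow.equiv D₀ D).toMonoidHom (Sylow.equiv D₀ D).surjective
  let A := (D₀ : Subgroup M).map M.subtype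
  have h4 := pow_four_of_two_group h hm A (D₀.isPGroup'.map _)
  have hzA : uS h 0 1 ∈ A := ⟨z, hD₀ (Subgroup.mem_zpowers z), rfl⟩
  have hfix := fix_of_exponent_four h hm A h4 hzA (uS_central_ne_one h hm one_ne_zero) ⟨none, rfl⟩
    (h.uS_smul_none 0 1)
  have hsub : ∀ x ∈ A, x ∈ M ∧ x ∈ unip h := by
    intro x hx
    obtain ⟨y, -, rfl⟩ := id hx
    exact ⟨y.2, unip_of_four h hm (h4 _ hx) (hfix _ hx)⟩
  suffices hA : IsCyclic A from
    isCyclic_of_surjective
      ((D₀ : Subgroup M).equivMapOfInjective M.subtype M.subtype_injective).symm.toMonoidHom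
      (MulEquiv.surjective _)
  have hcase : ∀ {x : F}, x ∈ hM.field h hm → x ≠ 0 → x = 1 := fun hx h0 => (hsmall _ hx).resolve_left h0
  by_cases hfour : ∃ a b, uS h a b ∈ A ∧ a ≠ 0
  · obtain ⟨a, b, hu, ha⟩ := hfour
    have ha1 : a = 1 := hcase (hM.fst_mem h hm (hsub _ hu).1) ha
    subst ha1
    refine cyclic_of_le (K := Subgroup.zpowers (uS h 1 b)) inferInstance fun x hx => ?_
    obtain ⟨hxM, a', b', rfl⟩ := hsub x hx
    rcases hsmall _ (hM.fst_mem h hm hxM) with rfl | rfl
    · rcases hsmall b' ((hM.mem_field h hm).mpr hxM) with rfl | rfl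
      · rw [h.uS_zero]; exact Subgroup.one_mem _
      · refine Subgroup.mem_zpowers_iff.mpr ⟨2, ?_⟩
        rw [zpow_two, ← pow_two, h.uS_sq, sg_one, one_mul]
    · have hd := M.mul_mem (M.inv_mem (hsub _ hu).1) hxM
      rw [h.uS_inv, h.uS_mul, sg_one, one_mul] at hd
      have h11 : (1 : F) + 1 = 0 := by linear_combination h.two0
      rw [h11] at hd
      rcases hsmall _ ((hM.mem_field h hm).mpr hd) with e | e
      · rw [show b' = b by linear_combination e - (b + 1) * h.two0]
        exact Subgroup.mem_zpowers _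
      · refine Subgroup.mem_zpowers_iff.mpr ⟨3, ?_⟩
        rw [show (3 : ℤ) = ((2 + 1 : ℕ) : ℤ) from rfl, zpow_natCast, pow_succ, h.uS_sq, h.uS_mul,
          sg_one, sg_zero, one_mul, zero_mul, add_zero, zero_add]
        congr 1
        linear_combination (-1 : F) * e + (b + 1) * h.two0
  · push Not at hfour
    refine cyclic_of_le (K := Subgroup.zpowers (uS h 0 1)) inferInstance fun x hx => ?_
    obtain ⟨hxM, a', b', rfl⟩ := hsub x hx
    obtain rfl := hfour a' b' hx
    rcases hsmall b' ((hM.mem_field h hm).mpr hxM) with rfl | rfl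
    · rw [h.uS_zero]; exact Subgroup.one_mem _
    · exact Subgroup.mem_zpowers _

end Cfsg.Agent.Lib.SzSubgroups
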